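import Groth.Agent.ComplDeriv.SmoothFree
import Groth.Agent.ComodBasic.AffineHeight
import Groth.Agent.DimTrdeg.Basic
import Groth.Agent.S14436
import Groth.Agent.CotLib.SmoothRegular
import Groth.Agent.PurelyInsepRed.Basic
import Groth.Agent.SmoothDense.Insep

/-!
Reduced algebras with projective differentials over perfect fields are smooth.
-/

universe u

open scoped TensorProduct
open IsLocalRing

namespace Groth.Agent.ProjOmega

variable {k A : Type u} [Field k] [CommRing A] [Algebra k A]

theorem rankAtStalk_kaehler (p : Ideal A) [hp : p.IsPrime] :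
    Module.rankAtStalk Ω[A⁄k] ⟨p, hp⟩ =
      Module.finrank (Localization.AtPrime p) Ω[Localization.AtPrime p⁄k] :=
  ((IsLocalizedModule.linearEquiv p.primeCompl (LocalizedModule.mkLinearMap p.primeCompl Ω[A⁄k])
    (KaehlerDifferential.map k k A (Localization.AtPrime p))).extendScalarsOfIsLocalization p.primeCompl
      (Localization.AtPrime p)).finrank_eq

variable [Algebra.FiniteType k A] [PerfectField k]

/-- The rank at a generic point is the dimension of the component. -/
theorem ringKrullDim_quotient_eq [IsReduced A] (P : Ideal A) [hP : P.IsPrime] (hmin : P ∈ minimalPrimes A) :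
    ringKrullDim (A ⧸ P) = (Module.rankAtStalk Ω[A⁄k] ⟨P, hP⟩ : ℕ) := by
  let L := Localization.AtPrime P
  have : IsNoetherianRing A := Algebra.FiniteType.isNoetherianRing k A
  have hF : IsField L := SmoothDense.isField_atPrime_of_minimal hmin
  letI : Field L := hF.toField
  obtain ⟨n, hn1, hn2⟩ := DimTrdeg.exists_trdeg_eq_ringKrullDim k (A ⧸ P)
  have : Algebra.EssFiniteType k L := inferInstance
  obtain ⟨s, hs, hsep⟩ := exists_isTranscendenceBasis_and_isSeparable_of_perfectField k L
  have hcard : Algebra.trdeg k L = n := by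
    have hbij : Function.Bijective (IsScalarTower.toAlgHom k L P.ResidueField) :=
      ⟨RingHom.injective (IsLocalRing.residue L), IsLocalRing.residue_surjective⟩
    rw [(AlgEquiv.ofBijective _ hbij).trdeg_eq, DimTrdeg.trdeg_fractionRing k (A ⧸ P) P.ResidueField, hn1]
  let e := (Finset.equivFin s).symm
  have hb : IsTranscendenceBasis k (fun i => ((e i : s) : L)) := hs.comp_equiv e
  have hr : Set.range (fun i => ((e i : s) : L)) = (s : Set L) := by
    ext x
    exact ⟨fun ⟨i, hi⟩ => hi ▸ (e i).2, fun hx => ⟨e.symm ⟨x, hx⟩, by simp⟩⟩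
  have hsep' : Algebra.IsSeparable ↥(IntermediateField.adjoin k (Set.range fun i => ((e i : s) : L))) L :=
    hr.symm ▸ hsep
  have hrank := Groth.Agent.S14436.result k L ⟨_, (IntermediateField.fg_top k L).choose_spec⟩ _ _ hb hsep'
  have hc : s.card = n := by
    have := hs.cardinalMk_eq_trdeg
    rw [hcard, Cardinal.mk_coe_finset] at this
    exact_mod_cast this
  rw [hn2, rankAtStalk_kaehler P, hrank, hc]

/-- Smooth at the closed points. -/
theorem isSmoothAt_maximal [IsReduced A] [Module.Projective A Ω[A⁄k]] (m : Ideal A) [hm : m.IsMaximal] :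
    Algebra.IsSmoothAt k m := by
  have : IsNoetherianRing A := Algebra.FiniteType.isNoetherianRing k A
  let S := Localization.AtPrime m
  let κ := m.ResidueField
  let _ := Ideal.Quotient.field m
  have : Module.Finite k (A ⧸ m) := finite_of_finite_type_of_isJacobsonRing k _
  have : Module.Finite k κ := Module.Finite.of_surjective (IsScalarTower.toAlgHom k (A ⧸ m) κ).toLinearMap
    (Ideal.bijective_algebraMap_quotient_residueField m).2
  have : Algebra.IsSeparable k κ := inferInstance
  have : Algebra.IsGeometricallyReduced k κ :=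
    (Algebra.isGeometricallyReduced_field_iff _ _).2 (PurelyInsepRed.isReduced_tensor_of_perfectField _)
  refine (CotLib.isSmoothAt_iff_regular m).2 ?_
  have : IsNoetherianRing S := IsLocalization.isNoetherianRing m.primeCompl S inferInstance
  rw [IsRegularLocalRing.iff_finrank_cotangentSpace]
  refine le_antisymm ?_ ((ringKrullDim_le_spanFinrank_maximalIdeal S).trans
    (by rw [spanFinrank_maximalIdeal_eq_finrank_cotangentSpace]))
  have : Algebra.FormallyUnramified k κ := Algebra.FormallyUnramified.of_isSeparable k κ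
  have : Subsingleton Ω[κ⁄k] := inferInstance
  have : Algebra.FormallySmooth k (ResidueField S) := inferInstanceAs (Algebra.FormallySmooth k κ)
  have : Module.Finite (ResidueField S) Ω[ResidueField S⁄k] := inferInstanceAs (Module.Finite κ Ω[κ⁄k])
  have h := ComplDeriv.finrank_residue_kaehler_of_formallySmooth k S
  rw [show Module.finrank (ResidueField S) Ω[ResidueField S⁄k] = 0 from Module.finrank_zero_of_subsingleton (R := κ) (M := Ω[κ⁄k]),
    add_zero] at h
  have : Module.Projective S Ω[S⁄k] := Module.Projective.of_equiv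
    ((KaehlerDifferential.isBaseChange_of_formallyEtale k A S).equiv (S := S))
  have : Module.Free S Ω[S⁄k] := Module.free_of_flat_of_isLocalRing
  rw [Module.finrank_baseChange, ← rankAtStalk_kaehler m] at h
  obtain ⟨P, hP, hPm⟩ := Ideal.exists_minimalPrimes_le (bot_le : (⊥ : Ideal A) ≤ m)
  have := hP.1.1
  have hrk := Module.rankAtStalk_eq_of_le_of_finite_of_flat' Ω[A⁄k] hPm
  rw [← h, ← hrk, ← ringKrullDim_quotient_eq P hP]
  obtain ⟨N, hN, hNh⟩ := ComodBasic.exists_height_eq_of_isMaximal k (A ⧸ P)
  rw [hN]
  have hM : (m.map (Ideal.Quotient.mk P)).IsMaximal :=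
    Ideal.IsMaximal.map_of_surjective_of_ker_le Ideal.Quotient.mk_surjective (by rwa [Ideal.mk_ker])
  rw [IsLocalization.AtPrime.ringKrullDim_eq_height m S]
  have hle : (N : ℕ∞) ≤ m.height := by
    have := hm.isPrime
    have := hM.isPrime
    have h1 := Order.height_le_height_apply_of_strictMono (PrimeSpectrum.comap (Ideal.Quotient.mk P))
      (RingHom.strictMono_comap_of_surjective Ideal.Quotient.mk_surjective) ⟨m.map (Ideal.Quotient.mk P), hM.isPrime⟩
    rw [← PrimeSpectrum.height_eq_orderHeight, ← PrimeSpectrum.height_eq_orderHeight, hNh _ hM] at h1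
    refine h1.trans_eq (congrArg Ideal.height ?_)
    show Ideal.comap _ _ = m
    rw [Ideal.comap_map_of_surjective _ Ideal.Quotient.mk_surjective, ← RingHom.ker_eq_comap_bot, Ideal.mk_ker, sup_eq_left.2 hPm]
  exact WithBot.coe_le_coe.2 hle

/-- Reduced with projective differentials over a perfect field is smooth. -/
theorem smooth_of_projective [IsReduced A] [Module.Projective A Ω[A⁄k]] : Algebra.Smooth k A := by
  have : Algebra.FinitePresentation k A := Algebra.FinitePresentation.of_finiteType.1 ‹_›
  refine ⟨Algebra.smoothLocus_eq_univ_iff.1 (Set.eq_univ_iff_forall.2 fun q => ?_), inferInstance⟩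
  obtain ⟨m, hm, hqm⟩ := Ideal.exists_le_maximal q.asIdeal q.2.ne_top
  exact (PrimeSpectrum.le_iff_specializes q ⟨m, hm.isPrime⟩).1 hqm |>.mem_open Algebra.isOpen_smoothLocus
    (isSmoothAt_maximal m)

end Groth.Agent.ProjOmega
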